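import Groth.Agent.GrpComp.Identity
import Groth.Agent.GrpField.Translate
import Groth.Agent.NormLB.Plain
import Groth.Agent.AbsApprox.FreeNhdsFLF
import Groth.Agent.TMul.Pullback
import Groth.Agent.Rigid.DimDrop
import Groth.Agent.Chev.TorsorMap
import Groth.Agent.S8121
import Mathlib.AlgebraicGeometry.ZariskisMainTheorem

/-!
# A smooth proper group scheme over a field has an ample invertible module
-/

set_option autoImplicit false
set_option backward.isDefEq.respectTransparency false
set_option linter.style.haveILetI false

universe u

open CategoryTheory CategoryTheory.Limits MonoidalCategory CartesianMonoidalCategory MonObj GrpObj AlgebraicGeometry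

noncomputable section

namespace Groth.Agent.GrpAmple

open Groth.Agent.GrpField (trR trL)

variable {k : Type u} [Field k]

/-- An ample module descends along a finite flat surjection. -/
theorem exists_isAmple_of_finite_flat {X' X : Scheme.{u}} (g : X' ⟶ X) [IsFinite g] [Flat g]
    [LocallyOfFinitePresentation g] [Surjective g] {L : X'.Modules} (hL : CohB1.IsAmple L) :
    ∃ M : X.Modules, CohB1.IsAmple M := by
  obtain ⟨N⟩ := NormLB.exists_preNorm (g := g) AbsApprox.freeNhds_of_flat
  exact NormLB.exists_isAmple N hL

/-- An ample module pulls back along an affine morphism. -/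
theorem exists_isAmple_of_affine {X' X : Scheme.{u}} (g : X' ⟶ X) [IsAffineHom g] {L : X.Modules}
    (hL : CohB1.IsAmple L) : ∃ M : X'.Modules, CohB1.IsAmple M :=
  ⟨_, TMul.isAmple_pullback_of_isAffineHom g hL⟩

/-- A smooth proper group has an ample module. -/
theorem exists_isAmple_of_smooth_proper (R : Over (Spec (CommRingCat.of k))) [GrpObj R] [IsProper R.hom]
    [Smooth R.hom] : ∃ L : R.left.Modules, CohB1.IsAmple L := by
  classical
  haveI : Subsingleton (Spec (CommRingCat.of k)) := inferInstanceAs (Subsingleton (PrimeSpectrum k))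
  obtain ⟨A, _, incl, _, hcl, hfl, -, hgi, -, -⟩ := GrpComp.exists_identity_subgroup R
  haveI := hcl; haveI := hfl; haveI := hgi
  haveI : IsLocallyNoetherian R.left := LocallyOfFiniteType.isLocallyNoetherian R.hom
  haveI : LocallyOfFinitePresentation incl.left := by
    haveI : LocallyOfFiniteType incl.left := inferInstance
    infer_instance
  haveI : IsOpenImmersion incl.left := IsOpenImmersion.of_flat_of_mono incl.left
  haveI : Smooth A.hom := by rw [← Over.w incl]; infer_instance
  haveI : IsProper A.hom := by rw [← Over.w incl]; infer_instance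
  haveI : IrreducibleSpace A.left :=
    GeometricallyIrreducible.irreducibleSpace A.hom (fun _ _ => isOpen_discrete _)
  haveI : GeometricallyIntegral A.hom := Chev.geometricallyIntegral_of_group (A := A)
  obtain ⟨L, hL, -⟩ := Groth.Agent.S8121.result k A
  -- closed points in every component
  haveI : CompactSpace R.left := QuasiCompact.compactSpace_of_compactSpace R.hom
  haveI : IsNoetherian R.left := {}
  haveI : JacobsonSpace R.left := LocallyOfFiniteType.jacobsonSpace R.hom
  have hfin : (irreducibleComponents R.left).Finite := TopologicalSpace.NoetherianSpace.finite_irreducibleComponents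
  have hpt : ∀ Z : irreducibleComponents R.left, ∃ x : R.left, x ∈ (Z : Set R.left) ∧ IsClosed ({x} : Set R.left) :=
    fun Z => by
      obtain ⟨x, hx, hxc⟩ := nonempty_inter_closedPoints (show (Z : Set R.left).Nonempty from
        (Z.2.1).nonempty) ((isClosed_of_mem_irreducibleComponents _ Z.2).isLocallyClosed)
      exact ⟨x, hx, hxc⟩
  choose pt hptZ hptc using hpt
  haveI := hfin.to_subtype
  let Zset : TopologicalSpace.Closeds R.left := ⟨Set.range pt, by
    rw [← Set.iUnion_singleton_eq_range]
    exact isClosed_iUnion_of_finite hptc⟩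
  let I := Scheme.IdealSheafData.vanishingIdeal Zset
  let T : Over (Spec (CommRingCat.of k)) := Over.mk (I.subschemeι ≫ R.hom)
  let c : T ⟶ R := Over.homMk I.subschemeι rfl
  haveI : IsClosedImmersion c.left := inferInstanceAs (IsClosedImmersion I.subschemeι)
  haveI : IsProper T.hom := inferInstanceAs (IsProper (I.subschemeι ≫ R.hom))
  have hcr : Set.range c.left = Set.range pt := by
    show Set.range I.subschemeι = _
    rw [Scheme.IdealSheafData.range_subschemeι, Scheme.IdealSheafData.coe_support_vanishingIdeal]
    rfl
  haveI : Finite T.left :=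
    haveI : Finite (Set.range pt) := (Set.finite_range pt).to_subtype
    Finite.of_injective (fun t : T.left => (⟨c.left t, hcr ▸ ⟨t, rfl⟩⟩ : Set.range pt)) fun a b h =>
      c.left.isClosedEmbedding.injective (congrArg Subtype.val h)
  haveI : LocallyQuasiFinite T.hom := .of_finite_preimage_singleton _ fun _ => Set.toFinite _
  haveI : IsFinite T.hom := IsFinite.of_isProper_of_locallyQuasiFinite T.hom
  haveI : Flat T.hom := GrpField.SchImg.flat_hom T
  haveI : LocallyOfFinitePresentation T.hom := inferInstance
  -- the translations
  let t : A ⊗ T ⟶ R := incl ▷ T ≫ (trL c).hom ≫ fst R T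
  haveI : IsFinite (fst R T).left := inferInstanceAs (IsFinite (pullback.fst R.hom T.hom))
  haveI : Flat (fst R T).left := inferInstanceAs (Flat (pullback.fst R.hom T.hom))
  haveI : LocallyOfFinitePresentation (fst R T).left :=
    inferInstanceAs (LocallyOfFinitePresentation (pullback.fst R.hom T.hom))
  haveI : IsIso (trL c).hom.left := ((Over.forget _).mapIso (trL c)).isIso_hom
  haveI : IsOpenImmersion (incl ▷ T).left :=
    MorphismProperty.of_isPullback (GrpField.SchImg.isPullback_whiskerRight incl T) ‹IsOpenImmersion incl.left›
  haveI : IsClosedImmersion (incl ▷ T).left :=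
    MorphismProperty.of_isPullback (GrpField.SchImg.isPullback_whiskerRight incl T) ‹IsClosedImmersion incl.left›
  haveI : IsFinite t.left := by simp only [t, Over.comp_left]; infer_instance
  haveI : Flat t.left := by simp only [t, Over.comp_left]; infer_instance
  haveI : LocallyOfFinitePresentation t.left := by simp only [t, Over.comp_left]; infer_instance
  have ht : ∀ z, pt z ∈ Set.range t.left := by
    intro z
    obtain ⟨y, hy⟩ : pt z ∈ Set.range c.left := hcr.symm ▸ ⟨z, rfl⟩
    refine ⟨(lift (1 : T ⟶ A) (𝟙 T)).left y, ?_⟩
    rw [← Scheme.Hom.comp_apply, ← Over.comp_left]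
    have e : lift (1 : T ⟶ A) (𝟙 T) ≫ t = c := by
      simp [t, trL, MonObj.comp_mul, MonObj.one_comp]
    rw [e, hy]
  haveI : Surjective t.left := by
    refine ⟨fun x => ?_⟩
    obtain ⟨Z, hZ, hxZ⟩ : ∃ Z ∈ irreducibleComponents R.left, x ∈ Z :=
      ⟨_, irreducibleComponent_mem_irreducibleComponents x, mem_irreducibleComponent⟩
    exact (hZ.1.isConnected.isPreconnected.subset_isClopen ⟨t.left.isClosedMap.isClosed_range, t.left.isOpenMap.isOpen_range⟩
      ⟨_, hptZ ⟨Z, hZ⟩, ht ⟨Z, hZ⟩⟩) hxZ
  haveI : IsFinite (fst A T).left := inferInstanceAs (IsFinite (pullback.fst A.hom T.hom))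
  obtain ⟨L', hL'⟩ := exists_isAmple_of_affine (fst A T).left hL
  exact exists_isAmple_of_finite_flat t.left hL'

end Groth.Agent.GrpAmple
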