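import Groth.Agent.GrpAmple.Smooth
import Groth.Agent.GeomProp.NilReduced
import Groth.Agent.GeomRedPull.Field
import Groth.Agent.Chev.FrobTwist
import Groth.Agent.Chev.AffineKer
import Groth.Agent.GrpBasic.Cartier
import Groth.Agent.GrpBasic.Perfect
import Groth.Agent.FpqcDescent.Affine
import Groth.Agent.GrpField.SchImgExists
import Groth.Agent.GrpField.SchDomFlat
import Groth.Agent.AdjRep.KerObj

/-!
# Group schemes of finite type over a field are quasi-projective
-/

set_option autoImplicit false
set_option backward.isDefEq.respectTransparency false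
set_option linter.style.haveILetI false

universe u

open CategoryTheory CategoryTheory.Limits MonoidalCategory CartesianMonoidalCategory MonObj GrpObj AlgebraicGeometry

noncomputable section

namespace Groth.Agent.GrpAmple

variable {k : Type u} [Field k]

/-- A geometrically reduced group is smooth. -/
theorem smooth_of_geomReduced (R : Over (Spec (CommRingCat.of k))) [GrpObj R] [LocallyOfFiniteType R.hom]
    [GeometricallyReduced R.hom] : Smooth R.hom := by
  let b := Spec.map (CommRingCat.ofHom (algebraMap k (AlgebraicClosure k)))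
  apply MorphismProperty.of_pullback_snd_of_descendsAlong
    (Q := @Surjective ⊓ @Flat ⊓ @QuasiCompact) (g := b)
  · exact ⟨⟨inferInstance, inferInstance⟩, inferInstance⟩
  · letI : GrpObj (Over.mk R.hom) := ‹GrpObj R›
    letI : GrpObj (Over.mk (pullback.snd R.hom b)) := Over.grpObjMkPullbackSnd
    haveI : IsReduced (pullback R.hom b) :=
      GeometricallyReduced.geometrically_isReduced (f := R.hom) b _ _ (IsPullback.of_hasPullback R.hom b)
    exact GrpBasic.smooth_of_grpObj_perfect _

/-- The reduced subgroup when the reduction is geometrically reduced. -/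
theorem exists_red_group_of_geomReduced (H : Over (Spec (CommRingCat.of k))) [GrpObj H] [LocallyOfFiniteType H.hom]
    {X₀ : Scheme.{u}} (i : X₀ ⟶ H.left) [IsClosedImmersion i] [Surjective i] [GeometricallyReduced (i ≫ H.hom)]
    [IsReduced X₀] :
    ∃ (_ : GrpObj (Over.mk (i ≫ H.hom))),
      IsMonHom (Over.homMk i rfl : Over.mk (i ≫ H.hom) ⟶ H) := by
  let R : Over (Spec (CommRingCat.of k)) := Over.mk (i ≫ H.hom)
  let r : R ⟶ H := Over.homMk i rfl
  haveI : IsClosedImmersion r.left := ‹IsClosedImmersion i›
  haveI : GeometricallyReduced R.hom := ‹GeometricallyReduced (i ≫ H.hom)›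
  haveI : IsReduced R.left := ‹IsReduced X₀›
  haveI : IsReduced (R ⊗ R).left := GeomRedPull.isReduced_pullback R.hom R.hom
  haveI : IsReduced (𝟙_ (Over (Spec (CommRingCat.of k)))).left := inferInstanceAs (IsReduced (Spec (CommRingCat.of k)))
  have hlift : ∀ {T : Over (Spec (CommRingCat.of k))} [IsReduced T.left] (g : T ⟶ H),
      ∃ g' : T ⟶ R, g' ≫ r = g := fun g => Chev.exists_lift_range g r (by
    rw [show Set.range r.left = Set.univ from Set.range_eq_univ.2 i.surjective]; exact Set.subset_univ _)
  obtain ⟨e, he⟩ := hlift η[H]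
  obtain ⟨d, hd⟩ := hlift ((fst R R ≫ r)⁻¹ * (snd R R ≫ r))
  exact GrpField.SchImg.exists_grpObj_of_div r ⟨e, he⟩ fun T k₁ k₂ => ⟨lift k₁ k₂ ≫ d, by
    rw [Category.assoc, hd, MonObj.comp_mul, GrpObj.comp_inv, lift_fst_assoc, lift_snd_assoc]⟩

/-- A proper group has an ample module. -/
theorem exists_isAmple_of_proper (P : Over (Spec (CommRingCat.of k))) [GrpObj P] [IsProper P.hom] :
    ∃ L : P.left.Modules, CohB1.IsAmple L := by
  obtain ⟨p, hp⟩ := CharP.exists k
  rcases CharP.char_is_prime_or_zero k p with hpr | rfl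
  swap
  · haveI : CharZero k := CharP.charP_to_charZero k
    letI : GrpObj (Over.mk P.hom) := ‹GrpObj P›
    haveI : Smooth P.hom := Groth.Agent.Cartier.smooth_of_charZero P.hom
    exact exists_isAmple_of_smooth_proper P
  haveI := Fact.mk hpr
  letI : P.left.Over (Spec (CommRingCat.of k)) := ⟨P.hom⟩
  haveI : LocallyOfFiniteType (P.left ↘ Spec (CommRingCat.of k)) := inferInstanceAs (LocallyOfFiniteType P.hom)
  haveI : CompactSpace P.left := QuasiCompact.compactSpace_of_compactSpace P.hom
  haveI : IsLocallyNoetherian P.left := LocallyOfFiniteType.isLocallyNoetherian P.hom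
  haveI : IsNoetherian P.left := {}
  obtain ⟨k', _, _, hfd, -, hgr⟩ := GeomProp.exists_pi_geometricallyReduced k P.left
    TopologicalSpace.NoetherianSpace.finite_irreducibleComponents
  haveI := hfd
  let b := Spec.map (CommRingCat.ofHom (algebraMap k k'))
  haveI : IsFinite b := (IsFinite.SpecMap_iff _).2 (RingHom.finite_algebraMap.2 inferInstance)
  haveI : LocallyOfFinitePresentation b := inferInstance
  haveI : Flat b := HasRingHomProperty.Spec_iff.2 (RingHom.flat_algebraMap_iff.2 inferInstance)
  haveI : Surjective b := ⟨fun _ => ⟨IsLocalRing.closedPoint _, Subsingleton.elim (α := PrimeSpectrum k) _ _⟩⟩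
  letI : GrpObj (Over.mk P.hom) := ‹GrpObj P›
  let H : Over (Spec (CommRingCat.of k')) := Over.mk (pullback.snd P.hom b)
  letI : GrpObj H := Over.grpObjMkPullbackSnd
  haveI : IsProper H.hom := inferInstanceAs (IsProper (pullback.snd P.hom b))
  haveI : CompactSpace H.left := QuasiCompact.compactSpace_of_compactSpace H.hom
  haveI : IsLocallyNoetherian H.left := LocallyOfFiniteType.isLocallyNoetherian H.hom
  let i := (Scheme.nilradical H.left).subschemeι
  haveI : AlgebraicGeometry.IsReduced (Scheme.nilradical H.left).subscheme :=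
    RedSepLib.isReduced_subscheme_nilradical H.left
  haveI : Surjective i := ⟨fun x => by
    have : x ∈ Set.range i := by
      rw [Scheme.IdealSheafData.range_subschemeι, Scheme.support_nilradical]; trivial
    exact this⟩
  haveI : GeometricallyReduced (i ≫ H.hom) := hgr
  obtain ⟨hR, -⟩ := exists_red_group_of_geomReduced H i
  let R : Over (Spec (CommRingCat.of k')) := Over.mk (i ≫ H.hom)
  letI : GrpObj R := hR
  haveI : GeometricallyReduced R.hom := hgr
  haveI : IsProper R.hom := inferInstanceAs (IsProper (i ≫ H.hom))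
  haveI := smooth_of_geomReduced R
  obtain ⟨L, hL⟩ := exists_isAmple_of_smooth_proper R
  haveI : CharP k' p := charP_of_injective_algebraMap (algebraMap k k').injective p
  haveI : FrobSch.IsCharP H.left p := FrobSch.IsCharP.of_hom H.hom p
  obtain ⟨m, hm⟩ := Chev.exists_frobPow_factor p i
  obtain ⟨w, hw⟩ := hm m le_rfl
  haveI : IsAffineHom w := by
    haveI : IsAffineHom (w ≫ i) := by rw [hw]; infer_instance
    exact IsAffineHom.of_comp w i
  obtain ⟨L', hL'⟩ := exists_isAmple_of_affine w hL
  haveI : IsFinite (pullback.fst P.hom b) := inferInstance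
  exact exists_isAmple_of_finite_flat (pullback.fst P.hom b) hL'

/-- A group scheme of finite type has an ample module. -/
theorem exists_isAmple_grp (G : Over (Spec (CommRingCat.of k))) [GrpObj G] [LocallyOfFiniteType G.hom]
    [QuasiCompact G.hom] : ∃ L : G.left.Modules, CohB1.IsAmple L := by
  obtain ⟨P, _, f, hf, hP, haff⟩ := Chev.exists_proper_affine_kernel G
  haveI := hf; haveI := hP
  haveI : QuasiCompact f.left := by
    haveI : QuasiCompact (f.left ≫ P.hom) := by rw [Over.w]; infer_instance
    exact QuasiCompact.of_comp f.left P.hom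
  obtain ⟨H, _, h₀, g, hh₀, hg, hgi, hcl, hd, hqc, hsu⟩ := GrpField.SchImg.exists_image f
  haveI := hcl; haveI := hg; haveI := hsu; haveI := hqc
  haveI : LocallyOfFiniteType H.hom := by rw [← Over.w h₀]; infer_instance
  haveI : Flat g.left := GrpField.flat_of_schDom g ((isSchemeTheoreticallyDominant_iff _).1 hd)
  obtain ⟨N, _, i, hi, hic, -, hker⟩ := AdjRep.exists_kernel g
  have hi1 : i ≫ g = 1 := by rw [hker.w, Hom.one_def]
  haveI := haff N i hic (by
    rw [← hgi, ← Category.assoc, hi1, MonObj.one_comp])
  have hsq := hker.map (Over.forget _)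
  simp only [Over.forget_map] at hsq
  have hk : IsAffineHom (pullback.snd g.left η[H].left) := by
    refine (MorphismProperty.cancel_left_of_respectsIso @IsAffineHom hsq.isoPullback.hom _).1 ?_
    erw [hsq.isoPullback_hom_snd]
    exact @isAffineHom_of_isAffine N.left _ _ ‹_› (isAffine_Spec _)
  haveI : IsAffineHom g.left := MorphismProperty.of_pullback_snd_of_descendsAlong (P := @IsAffineHom)
    (Q := @Surjective ⊓ @Flat ⊓ @QuasiCompact) (f := g.left) (g := g.left) ⟨⟨hsu, ‹_›⟩, hqc⟩
    (GrpField.snd_self_iff g @IsAffineHom hk)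
  haveI : IsAffineHom f.left := by rw [← hgi, Over.comp_left]; infer_instance
  obtain ⟨L, hL⟩ := exists_isAmple_of_proper P
  exact exists_isAmple_of_affine f.left hL

end Groth.Agent.GrpAmple
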